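/-
The elimination: data and the polynomial identities.
-/
import Cfsg.Agent.REE.PE
import Mathlib.Tactic.LinearCombination

set_option autoImplicit false

namespace Cfsg.Agent.REE

def tl0 : List (List ℕ) := [[0, 0, 0, 2], [0, 0, 1, 1], [0, 0, 2, 2], [0, 0, 1], []]
def tl1 : List (List ℕ) := [[0, 40], [0, 40, 4], [20, 36, 10, 1], [0, 33, 10], [0, 4]]
def tl2 : List (List ℕ) := [[], [], [40, 0, 5], [0, 18], []]
def tm1 : List (List ℕ) := [[0, 0, 10, 1], [0, 40, 2, 1], [0, 40, 2, 1], [0, 40, 4], []]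
def tm2 : List (List ℕ) := [[0, 5], [], [40, 0, 5, 2], [0, 20, 10], [0, 8]]
def tm3 : List (List ℕ) := [[20], [], [20], [], [20]]
def tA : List (List ℕ) :=
  [[2048, 8192, 25600, 91136, 151552, 38912, 167936, 98304, 0, 2048, 8192, 25600, 91136, 151552, 38912, 167936, 98304, 0, 2048, 8192, 25600, 91136, 151552, 38912, 167936, 98304],
  [10240, 9216, 91136, 65536, 108544, 557056, 69632, 409600, 0, 10240, 9216, 91136, 65536, 108544, 557056, 69632, 409600, 0, 10240, 9216, 91136, 65536, 108544, 557056, 69632, 409600],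
  [34816, 107520, 148736, 595200, 532736, 2397184, 1703936, 557056, 0, 34816, 107520, 148736, 595200, 532736, 2397184, 1703936, 557056, 0, 34816, 107520, 148736, 595200, 532736, 2397184, 1703936, 557056],
  [16384, 22528, 414208, 18688, 1058816, 165120, 550400, 2712064, 2114048, 2130432, 2136576, 2527488, 2131968, 27136, 2229248, 2663680, 1679616, 1081600, 1048832, 1054976, 1445888, 1051136, 2140416, 1197568, 1582080, 598016],
  [21504, 90368, 140288, 525312, 288832, 305664, 6964352, 4549184, 6889728, 5941376, 4794432, 6821120, 5658752, 4204160, 6395904, 8755264, 8463744, 9835008, 10813504, 8758912, 9766400, 10592320, 8954112, 10127616, 1056768, 630784],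
  [17408, 73984, 659968, 1382528, 2791040, 8475776, 8521792, 5908096, 2492800, 11075648, 5248128, 2168960, 8557568, 4819264, 10768704, 6849664, 11082048, 1640000, 5671040, 10619456, 1316160, 6836288, 10002432, 10115584, 1392640, 524288],
  [37888, 1024, 137792, 1220864, 337024, 1135936, 2369184, 402528, 1214560, 8718480, 8688976, 9707664, 5923456, 4198912, 6915200, 2490704, 288912, 2180240, 4874336, 4744864, 6882592, 9838656, 9046336, 8726016, 2430976, 368640],
  [17408, 140800, 24896, 2118784, 4884096, 6300832, 4296960, 36077952, 6898720, 1411328, 44208192, 1720736, 10102144, 44320896, 2658384, 8489472, 18436672, 9865232, 2753024, 22169984, 2445584, 4556416, 17891712, 10766336, 107520, 8192],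
  [9216, 88320, 170496, 1393152, 2627984, 5662800, 19140944, 6292560, 42287648, 1056, 33954128, 19159168, 34120064, 25826592, 11036832, 33657504, 9980064, 21659920, 5136, 17340832, 35199296, 19009600, 39391552, 92160, 1724416, 294912],
  [1024, 21760, 295232, 68096, 2762240, 8914304, 26363536, 4211800, 5837984, 11085096, 25598016, 1333544, 43361360, 33622336, 6899264, 40409440, 8460452, 10889296, 5641748, 38343296, 2368916, 23679392, 18092160, 1737728, 335872, 172032],
  [22528, 39424, 664704, 1640064, 2511888, 17368640, 17918468, 43123992, 25727636, 22299752, 36275544, 27616388, 23330816, 35723296, 38086784, 33851656, 23468580, 38035816, 44589204, 18260132, 38839432, 42076480, 19435520, 8458496, 2758656, 663552],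
  [20480, 155904, 100928, 72256, 20800, 34757184, 42287652, 26904864, 27525780, 25323176, 2196624, 26215048, 26568704, 9527616, 18518656, 23236888, 39880208, 39321960, 37833044, 1055328, 39994884, 40470912, 6439232, 1447424, 1581056, 360448],
  [40960, 8448, 529728, 696640, 43600, 43094032, 8472840, 25207136, 42501648, 38872594, 18368149, 38425636, 19267592, 26305928, 18188808, 2135312, 35136936, 18251784, 21078025, 42340934, 22550948, 44144016, 33646080, 2631680, 2188288, 434176],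
  [40960, 168960, 74048, 284224, 10832, 33854976, 43386968, 10585736, 20998469, 4545122, 23691814, 35283288, 2247232, 27290276, 27531416, 19481684, 8659464, 43589974, 4592961, 33702545, 16844800, 9781792, 42614912, 6400000, 561152, 335872],
  [34816, 137728, 338560, 2778752, 1448256, 37898256, 18874496, 6838664, 17043605, 2527622, 18094740, 20996770, 34767442, 44582530, 25337922, 39870738, 5636614, 38277257, 6374424, 44181034, 34248224, 22718592, 17205376, 4326400, 286720, 425984],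
  [26624, 2304, 75392, 2189952, 666272, 35914080, 1123908, 21333396, 2705061, 26362498, 17867097, 37915030, 39919785, 43558292, 34629798, 16851585, 6555928, 17438809, 75362, 4490306, 39101076, 35735200, 39948864, 4203776, 1148928, 696320],
  [34816, 71936, 36928, 1092224, 8732688, 43327872, 36348180, 4331528, 43518536, 26493318, 18891845, 20971649, 9574822, 2661030, 44214625, 17810, 17387650, 39930241, 16818448, 6949449, 2728980, 44377680, 25837824, 5613824, 2720768, 8192],
  [6144, 173568, 91392, 2785920, 1319440, 44196176, 10639440, 10785320, 19028560, 18423960, 22193577, 5392809, 23483736, 6836778, 44341908, 33641994, 8454673, 21600278, 44574209, 1312146, 1328136, 6298112, 35721344, 1649152, 1654784, 294912],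
  [0, 35328, 531072, 102656, 1476864, 38339216, 39954964, 18448532, 21595162, 10506882, 23218473, 36324713, 43556948, 35162217, 11076896, 17934885, 43158185, 42295380, 43096416, 33659304, 34212388, 44175744, 17072768, 2722048, 286720, 73728],
  [34816, 16640, 304192, 2427200, 1572896, 16782720, 22587480, 9774368, 35947545, 25231425, 8659496, 10786202, 40475234, 8978794, 37919240, 22644257, 19044741, 39134608, 5597286, 17406036, 35785088, 17377632, 18977920, 11100160, 2631680, 303104],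
  [9216, 10752, 128, 331904, 295296, 174464, 33952280, 37835856, 10752680, 8917380, 4214946, 23089472, 1452417, 26560905, 19431748, 1197704, 26913298, 8995410, 1476261, 26749540, 4744832, 4793664, 4296960, 294912, 131072, 589824],
  [4096, 34304, 104576, 333184, 2124192, 6637088, 4528388, 10588688, 9720096, 2638433, 26870441, 11085958, 4212010, 5935460, 18942058, 692736, 33973781, 21140005, 1187878, 40239248, 34145680, 21256768, 35817984, 660480, 1335296, 622592],
  [2048, 2560, 10880, 42368, 567648, 612864, 6923556, 38029892, 10659402, 1712289, 37855768, 17138769, 40404034, 21513313, 33694377, 8782360, 17467522, 23412886, 411728, 43253892, 27791616, 27855360, 34087424, 10620928, 2719744, 540672],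
  [0, 1024, 1600, 33152, 151552, 329824, 2381056, 5329156, 18452522, 17196137, 38950506, 11178009, 38053474, 42340629, 39855241, 44639394, 6629896, 44586248, 25843880, 18522496, 16787616, 1344064, 22059520, 9594880, 2166784, 688128],
  [0, 512, 512, 9280, 8592, 17744, 630808, 1181000, 2105386, 2381345, 27938837, 10658180, 1746457, 25339974, 36340002, 27550053, 9967912, 4530580, 39932512, 9527552, 21538880, 10822144, 43357184, 10063872, 2719744, 327680],
  [0, 0, 576, 384, 2400, 34448, 173608, 365188, 154196, 9849113, 26759433, 23691912, 23107912, 44061081, 109089, 278928, 17924244, 26317184, 10901504, 38344064, 10790144, 27895808, 10493952, 9781248, 2752512],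
  [0, 0, 0, 576, 1104, 592, 9296, 2564, 567296, 1382052, 8732677, 33909330, 610981, 35947540, 1462696, 40125864, 16928896, 36333984, 42222208, 6908160, 34103296, 5840896, 10633216, 2162688],
  [0, 0, 0, 0, 0, 2208, 2136, 10832, 74309, 68245, 349333, 8667413, 8471074, 44700760, 27297156, 17843744, 42608896, 19304960, 38159360, 10059776, 10502144, 2752512],
  [0, 0, 0, 0, 0, 0, 672, 324, 4626, 25894, 42378, 541722, 2524320, 1478928, 19007808, 17961984, 6850560, 9019392, 1441792, 589824]]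

namespace PE

def tb (T : List (List ℕ)) (z d r e n f : PE) : PE := dat z d r e n f 3 4 5 T

def q0 (z d r e n f : PE) : PE := tb tm2 z d r e n f * tb tl0 z d r e n f
def q1 (z d r e n f : PE) : PE := tb tm2 z d r e n f * tb tl1 z d r e n f +
  tb tm3 z d r e n f * tb tl0 z d r e n f + 2 * (tb tl2 z d r e n f * tb tm1 z d r e n f)
def q2 (z d r e n f : PE) : PE := tb tm3 z d r e n f * tb tl1 z d r e n f

/-- the resultant of two quadratic polynomials -/
def res (a0 a1 a2 c0 c1 c2 : PE) : PE :=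
  (a2 * c0 + 2 * (a0 * c2)) ^ 2 + 2 * ((a2 * c1 + 2 * (a1 * c2)) * (a1 * c0 + 2 * (a0 * c1)))

def resA (z u b N D : PE) : PE :=
  res (q0 z 1 N D b 1) (q1 z 1 N D b 1) (q2 z 1 N D b 1)
    (q0 (2 * N) D (2 * z) 1 (b + u + 2) (b * u) * N ^ 4)
    (q1 (2 * N) D (2 * z) 1 (b + u + 2) (b * u) * (z * N * D) ^ 2)
    (q2 (2 * N) D (2 * z) 1 (b + u + 2) (b * u) * (z * D) ^ 4) +
  2 * (z ^ 5 * b ^ 12 * u * (z + 1) ^ 4 * (b + 2) ^ 2 * D ^ 7 * (1 + z * u) ^ 5 * (N + 2 * D) ^ 4 *
    (b * (1 + z * u ^ 2) + 2 * ((1 + z * u) * D)) * dat z 1 u 1 b 1 13 26 29 tA)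

theorem chk_resA : chk 3 61 105
    (resA (var 0) (var 1) (var 2) (var 2 * (1 + var 0 * var 1)) (1 + 2 * var 1)) = true := by
  decide +kernel

def e1 (T X Y z r : PE) : PE := z * X * (T + 2 * Y) + Y * (T + 2 * X) + 2 * (r * (T + 2 * (X * Y)))

def e2 (T X Y z r b : PE) : PE :=
  T * b ^ 2 * ((1 + z) * z + 2 * ((r + 2 * b) * r) + 2 * (z * r * (r + z * b))) +
    2 * ((1 + z) * z * ((b + 1) ^ 2 * (b + 2) ^ 2 * X * Y)) + (r + 2 * b) * r * ((b + 1) ^ 2 * Y) +
    z * r * (r + z * b) * ((b + 2) ^ 2 * X)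

def e3 (T X Y z r b : PE) : PE :=
  (r + 2 * b) * r * (2 * (b ^ 2 * (b + 2) * (T + 2 * (X * Y))) + 2 * (X * (T + 2 * Y) * b ^ 2) +
      2 * (Y * (1 + 2 * X) * (b + 1) ^ 2)) +
    2 * (r * (r + z * b) * (b ^ 2 * (b + 1) * (T + 2 * (X * Y)) + 2 * (Y * (T + 2 * X) * b ^ 2) +
      2 * (X * (1 + 2 * Y) * (b + 2) ^ 2))) +
    (1 + z) * (r * (T + 2 * (X * Y)) + Y * (T + 2 * X)) * (b ^ 4 + 1)

def idL (T X Y z r b : PE) : PE :=
  r * (r + 2 * b) * ((b + 1) ^ 2 + 2 * (X * b ^ 2)) * e1 T X Y z r + (X + 2 * T) * e2 T X Y z r b +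
    2 * (X * z) * e3 T X Y z r b + 2 * ((T + 2 * (X * Y)) *
      (tb tl0 z 1 r 1 b 1 + tb tl1 z 1 r 1 b 1 * X + tb tl2 z 1 r 1 b 1 * T))

def idM (T X Y z r b : PE) : PE :=
  (T * (z * r * b ^ 3 + r ^ 2 * b ^ 2 + (z + 1) * (b ^ 4 + 1)) +
      2 * (X * r * (b + 2) ^ 2 * (r + z * b))) * e1 T X Y z r + T * (X + 2) * e2 T X Y z r b +
    2 * T * e3 T X Y z r b + 2 * ((T + 2 * (X * Y)) *
      (tb tm1 z 1 r 1 b 1 * X + (tb tm2 z 1 r 1 b 1 + tb tm3 z 1 r 1 b 1 * X) * T))

theorem chk_idL : chk 6 9 18 (idL (var 0) (var 1) (var 2) (var 3) (var 4) (var 5)) = true := by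
  decide +kernel

theorem chk_idM : chk 6 9 18 (idM (var 0) (var 1) (var 2) (var 3) (var 4) (var 5)) = true := by
  decide +kernel

end PE

variable {F : Type*} [Field F]

def tb (T : List (List ℕ)) (z d r e n f : F) : F := hor2 z d r e n f 3 4 5 T

def q0 (z d r e n f : F) : F := tb tm2 z d r e n f * tb tl0 z d r e n f
def q1 (z d r e n f : F) : F := tb tm2 z d r e n f * tb tl1 z d r e n f +
  tb tm3 z d r e n f * tb tl0 z d r e n f - tb tl2 z d r e n f * tb tm1 z d r e n f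
def q2 (z d r e n f : F) : F := tb tm3 z d r e n f * tb tl1 z d r e n f

/-- the polynomial `A` -/
def pA {R : Type*} [CommSemiring R] (z d u e b : R) : R := hor2 z d u e b 1 13 26 29 tA

theorem tb_smul (T : List (List ℕ)) (c c' c'' z r n : F) :
    tb T (c * z) c (c' * r) c' (c'' * n) c'' = c ^ 2 * c' ^ 3 * c'' ^ 4 * tb T z 1 r 1 n 1 := by
  simpa [tb] using hor2_smul c c' c'' z 1 r 1 n 1 3 4 5 T

theorem quad (h3 : (3 : F) = 0) {T X Y z r b : F}
    (E1 : z * X * (T - Y) + Y * (T - X) = r * (T - X * Y))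
    (E2 : T * b ^ 2 * ((1 + z) * z - (r - b) * r - z * r * (r + z * b)) =
      (1 + z) * z * ((b + 1) ^ 2 * (b - 1) ^ 2 * X * Y) - (r - b) * r * ((b + 1) ^ 2 * Y) -
        z * r * (r + z * b) * ((b - 1) ^ 2 * X))
    (E3 : (r - b) * r *
        (-b ^ 2 * (b - 1) * (T - X * Y) - X * (T - Y) * b ^ 2 - Y * (1 - X) * (b + 1) ^ 2) =
      r * (r + z * b) *
        (b ^ 2 * (b + 1) * (T - X * Y) - Y * (T - X) * b ^ 2 - X * (1 - Y) * (b - 1) ^ 2) -
      (1 + z) * (r * (T - X * Y) + Y * (T - X)) * (b ^ 4 + 1))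
    (hD : T - X * Y ≠ 0) :
    q0 z 1 r 1 b 1 + q1 z 1 r 1 b 1 * X + q2 z 1 r 1 b 1 * X ^ 2 = 0 := by
  have h2 : (2 : F) = -1 := by linear_combination h3
  have hL := PE.eq_zero PE.chk_idL h3 [T, X, Y, z, r, b] rfl
  have hM := PE.eq_zero PE.chk_idM h3 [T, X, Y, z, r, b] rfl
  simp only [PE.idL, PE.idM, PE.e1, PE.e2, PE.e3, PE.tb, PE.ev_add, PE.ev_mul, PE.ev_pow,
    PE.ev_num, PE.ev_var, PE.ev_dat, List.getD_cons_succ, List.getD_cons_zero, Nat.cast_ofNat,
    Nat.cast_one, h2] at hL hM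
  have hL' : tb tl0 z 1 r 1 b 1 + tb tl1 z 1 r 1 b 1 * X + tb tl2 z 1 r 1 b 1 * T = 0 := by
    refine (mul_eq_zero.1 ?_).resolve_left hD
    unfold tb
    linear_combination -hL + r * (r - b) * ((b + 1) ^ 2 - X * b ^ 2) * E1 + (X - T) * E2 - X * z * E3
  have hM' : tb tm1 z 1 r 1 b 1 * X + (tb tm2 z 1 r 1 b 1 + tb tm3 z 1 r 1 b 1 * X) * T = 0 := by
    refine (mul_eq_zero.1 ?_).resolve_left hD
    unfold tb
    linear_combination -hM + (T * (z * r * b ^ 3 + r ^ 2 * b ^ 2 + (z + 1) * (b ^ 4 + 1)) -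
      X * r * (b - 1) ^ 2 * (r + z * b)) * E1 + T * (X - 1) * E2 - T * E3
  unfold q0 q1 q2
  linear_combination (tb tm2 z 1 r 1 b 1 + tb tm3 z 1 r 1 b 1 * X) * hL' - tb tl2 z 1 r 1 b 1 * hM'

theorem pA_eq_zero (h3 : (3 : F) = 0) {z u b r b' X : F} (hr : b * (1 + z * u) = (1 - u) * r)
    (hb : b + u - 1 = b * u * b')
    (Q : q0 z 1 r 1 b 1 + q1 z 1 r 1 b 1 * X + q2 z 1 r 1 b 1 * X ^ 2 = 0)
    (Q' : q0 (-r) 1 (-z) 1 b' 1 * r ^ 4 + q1 (-r) 1 (-z) 1 b' 1 * (z * r) ^ 2 * X +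
      q2 (-r) 1 (-z) 1 b' 1 * z ^ 4 * X ^ 2 = 0)
    (z0 : z ≠ 0) (b0 : b ≠ 0) (u0 : u ≠ 0) (z1 : z + 1 ≠ 0) (b1 : b - 1 ≠ 0) (u1 : 1 - u ≠ 0)
    (k0 : 1 + z * u ≠ 0) (r1 : r - 1 ≠ 0) (R0 : b * (1 + z * u ^ 2) - (1 + z * u) * (1 - u) ≠ 0) :
    pA z 1 u 1 b = 0 := by
  have h2 : (2 : F) = -1 := by linear_combination h3
  have h := PE.eq_zero PE.chk_resA h3 [z, u, b] rfl
  simp only [PE.resA, PE.res, PE.q0, PE.q1, PE.q2, PE.tb, PE.ev_add, PE.ev_mul, PE.ev_pow,
    PE.ev_num, PE.ev_var, PE.ev_dat, List.getD_cons_succ, List.getD_cons_zero, Nat.cast_ofNat,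
    Nat.cast_one, h2, neg_one_mul, ← sub_eq_add_neg, hr, hb] at h
  have e1 : ∀ T, hor2 z 1 ((1 - u) * r) (1 - u) b 1 3 4 5 T = (1 - u) ^ 3 * tb T z 1 r 1 b 1 :=
    fun T => by simpa [tb] using tb_smul T 1 (1 - u) 1 z r b
  have e2 : ∀ T, hor2 (-((1 - u) * r)) (1 - u) (-z) 1 (b * u * b') (b * u) 3 4 5 T =
      (1 - u) ^ 2 * (b * u) ^ 4 * tb T (-r) 1 (-z) 1 b' 1 :=
    fun T => by simpa [tb] using tb_smul T (1 - u) 1 (b * u) (-r) (-z) b'
  simp only [e1, e2] at h
  unfold q0 q1 q2 at Q Q'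
  generalize tb tm2 z 1 r 1 b 1 = m2, tb tm3 z 1 r 1 b 1 = m3, tb tm1 z 1 r 1 b 1 = m1,
    tb tl0 z 1 r 1 b 1 = l0, tb tl1 z 1 r 1 b 1 = l1, tb tl2 z 1 r 1 b 1 = l2,
    tb tm2 (-r) 1 (-z) 1 b' 1 = m2', tb tm3 (-r) 1 (-z) 1 b' 1 = m3',
    tb tm1 (-r) 1 (-z) 1 b' 1 = m1', tb tl0 (-r) 1 (-z) 1 b' 1 = l0',
    tb tl1 (-r) 1 (-z) 1 b' 1 = l1', tb tl2 (-r) 1 (-z) 1 b' 1 = l2' at h Q Q'
  have key : ∀ a0 a1 a2 c0 c1 c2 : F, a0 + a1 * X + a2 * X ^ 2 = 0 → c0 + c1 * X + c2 * X ^ 2 = 0 →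
      (a2 * c0 - a0 * c2) ^ 2 - (a2 * c1 - a1 * c2) * (a1 * c0 - a0 * c1) = 0 :=
    fun a0 a1 a2 c0 c1 c2 ha hc => by
      linear_combination (c2 * (a0 * c2 - a2 * c0) + (c1 + c2 * X) * (a2 * c1 - a1 * c2)) * ha +
        (a2 * (a2 * c0 - a0 * c2) - (a1 + a2 * X) * (a2 * c1 - a1 * c2)) * hc
  rw [key _ _ _ _ _ _ (by linear_combination (1 - u) ^ 6 * Q)
    (by linear_combination (1 - u) ^ 8 * (b * u) ^ 8 * Q'), zero_sub, neg_eq_zero,
    show (1 - u) * r - (1 - u) = (1 - u) * (r - 1) by ring] at h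
  simpa [pA, z0, b0, u0, z1, b1, u1, k0, r1, R0] using h

end Cfsg.Agent.REE
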